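import Mathlib.Algebra.Lie.Basis.Base
import Mathlib.Algebra.Lie.Semisimple.Defs
import Mathlib.FieldTheory.IsAlgClosed.Basic
import Mathlib.LinearAlgebra.Eigenspace.Basic
import Mathlib.LinearAlgebra.Dimension.Constructions

/-!
# The top of a simple Lie algebra seen from a basis: highest root and the two levels below
-/

set_option linter.unusedSectionVars false

universe u v w

namespace Groth.Agent.LieTop

open LieAlgebra LieModule

variable {ι : Type u} {K : Type v} {L : Type w} [Fintype ι] [Field K] [CharZero K]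
    [IsAlgClosed K] [LieRing L] [LieAlgebra K L] [FiniteDimensional K L] [LieAlgebra.IsSimple K L]
    {H : LieSubalgebra K L} [H.IsCartanSubalgebra] (b : LieAlgebra.Basis ι H)

/-- A highest weight vector of the adjoint module. -/
structure Top (ρ : Module.Dual K H) (x : L) : Prop where
  ne_zero : x ≠ 0
  lie_h : ∀ h : H, ⁅(h : L), x⁆ = ρ h • x
  lie_e : ∀ i, ⁅b.e i, x⁆ = 0

/-- Monomials in the lowering operators. -/
noncomputable def mon (x : L) : List ι → L
  | [] => x
  | i :: l => ⁅b.f i, mon x l⁆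

/-- Their weights. -/
noncomputable def wt (ρ : Module.Dual K H) (l : List ι) : Module.Dual K H := ρ - (l.map b.baseSupp).sum

lemma lie_h_e' (h : H) (i : ι) : ⁅(h : L), b.e i⁆ = b.baseSupp i h • b.e i :=
  (b.baseSupp_apply_smul_e i h).symm

lemma lie_h_f' (h : H) (i : ι) : ⁅(h : L), b.f i⁆ = -(b.baseSupp i h • b.f i) := by
  rw [b.baseSupp_apply_smul_f i h, neg_neg]; rfl

lemma exists_top (ρ : Module.Dual K H) (hρ : rootSpace H ρ ≠ ⊥)
    (htop : ∀ i, rootSpace H (ρ + b.baseSupp i) = ⊥) : ∃ x, Top b ρ x := by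
  have : LieModule.LinearWeights K H L := inferInstance
  let χ : LieModule.Weight K H L := ⟨ρ, hρ⟩
  obtain ⟨x, hx0, hx⟩ := exists_forall_lie_eq_smul K H L χ
  refine ⟨x, hx0, fun h => hx h, fun i => ?_⟩
  have hmem : ⁅b.e i, x⁆ ∈ rootSpace H (ρ + b.baseSupp i : Module.Dual K H) := by
    rw [LieModule.mem_genWeightSpace]
    intro h
    refine ⟨1, ?_⟩
    have e : ⁅(h : L), ⁅b.e i, x⁆⁆ = (ρ + b.baseSupp i) h • ⁅b.e i, x⁆ := by
      rw [leibniz_lie, lie_h_e' b, smul_lie, show ⁅(h : L), x⁆ = χ h • x from hx h, lie_smul,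
        LinearMap.add_apply, add_smul, add_comm]
      rfl
    simp only [pow_one, LinearMap.sub_apply, LinearMap.smul_apply, Module.End.one_apply,
      LieModule.toEnd_apply_apply]
    exact sub_eq_zero.mpr e
  rw [show ((ρ + b.baseSupp i : Module.Dual K H) : H → K) = ⇑ρ + ⇑(b.baseSupp i) from rfl, htop i] at hmem
  exact (LieSubmodule.mem_bot _).mp hmem

variable {b} {ρ : Module.Dual K H} {x : L}

lemma wt_cons (i : ι) (l : List ι) : wt b ρ (i :: l) = wt b ρ l - b.baseSupp i := by
  simp only [wt, List.map_cons, List.sum_cons]; abel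

lemma wt_nil : wt b ρ [] = ρ := by simp [wt]

lemma wt_perm {l l' : List ι} (h : wt b ρ l = wt b ρ l') : l.Perm l' := by
  classical
  have hs : ∀ l : List ι, (l.map b.baseSupp).sum = ∑ i, (l.count i : K) • b.baseSupp i := by
    intro l
    induction l with
    | nil => simp
    | cons a l ih =>
      rw [List.map_cons, List.sum_cons, ih]
      simp only [List.count_cons, Nat.cast_add, add_smul, Finset.sum_add_distrib]
      rw [add_comm]
      congr 1
      simp [Finset.sum_ite_eq]
  simp only [wt, sub_right_inj, hs] at h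
  refine List.perm_iff_count.mpr fun i => ?_
  exact_mod_cast congrFun (Fintype.linearIndependent_iffₛ.mp b.linearIndependent_baseSupp _ _ h |> funext) i

variable (hx : Top b ρ x)
include hx

lemma lie_h_mon (h : H) : ∀ l : List ι, ⁅(h : L), mon b x l⁆ = wt b ρ l h • mon b x l
  | [] => by rw [wt_nil]; exact hx.lie_h h
  | i :: l => by
    show ⁅(h : L), ⁅b.f i, mon b x l⁆⁆ = _
    rw [leibniz_lie, lie_h_f' b, neg_lie, smul_lie, lie_h_mon h l, lie_smul, wt_cons,
      LinearMap.sub_apply, sub_smul]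
    show -_ + _ = wt b ρ l h • ⁅b.f i, mon b x l⁆ - b.baseSupp i h • ⁅b.f i, mon b x l⁆
    abel

lemma mon_mem (l : List ι) : mon b x l ∈ rootSpace H (wt b ρ l : Module.Dual K H) := by
  rw [LieModule.mem_genWeightSpace]
  intro h
  refine ⟨1, ?_⟩
  simp only [pow_one, LinearMap.sub_apply, LinearMap.smul_apply, Module.End.one_apply,
    LieModule.toEnd_apply_apply]
  exact sub_eq_zero.mpr (lie_h_mon hx h l)

lemma lie_e_mon (i : ι) : ∀ l : List ι,
    ⁅b.e i, mon b x l⁆ ∈ Submodule.span K (Set.range (mon b x))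
  | [] => by rw [show mon b x [] = x from rfl, hx.lie_e]; exact zero_mem _
  | a :: l => by
    show ⁅b.e i, ⁅b.f a, mon b x l⁆⁆ ∈ _
    rw [leibniz_lie]
    refine add_mem ?_ ?_
    · rcases eq_or_ne i a with h | h
      · subst h
        rw [(b.sl2 i).lie_e_f, show b.h i = ((b.h' i : H) : L) from rfl, lie_h_mon hx]
        exact Submodule.smul_mem _ _ (Submodule.subset_span ⟨l, rfl⟩)
      · rw [b.lie_e_f_ne i a h, zero_lie]; exact zero_mem _
    · have := lie_e_mon i l
      generalize ⁅b.e i, mon b x l⁆ = z at this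
      induction this using Submodule.span_induction with
      | zero => simp
      | add p q _ _ hp hq => rw [lie_add]; exact add_mem hp hq
      | smul c p _ hp => rw [lie_smul]; exact Submodule.smul_mem _ c hp
      | mem p hp =>
        obtain ⟨l', rfl⟩ := hp
        exact Submodule.subset_span ⟨a :: l', rfl⟩

omit hx in
/-- The stabiliser of a subspace. -/
def stab (M : Submodule K L) : LieSubalgebra K L where
  carrier := {a | ∀ m ∈ M, ⁅a, m⁆ ∈ M}
  add_mem' ha hb m hm := by rw [add_lie]; exact add_mem (ha m hm) (hb m hm)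
  zero_mem' m _ := by rw [zero_lie]; exact zero_mem _
  smul_mem' c a ha m hm := by rw [smul_lie]; exact Submodule.smul_mem _ c (ha m hm)
  lie_mem' {a a'} ha ha' m hm := by
    rw [lie_lie]; exact sub_mem (ha _ (ha' m hm)) (ha' _ (ha m hm))

lemma span_mon : Submodule.span K (Set.range (mon b x)) = ⊤ := by
  set M := Submodule.span K (Set.range (mon b x)) with hM
  have hstab : stab M = ⊤ := by
    rw [eq_top_iff, ← b.span_ef, LieSubalgebra.lieSpan_le]
    rintro a (⟨i, rfl⟩ | ⟨i, rfl⟩) <;> intro m hm <;>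
      induction hm using Submodule.span_induction with
      | zero => simp
      | add p q _ _ hp hq => rw [lie_add]; exact add_mem hp hq
      | smul c p _ hp => rw [lie_smul]; exact Submodule.smul_mem _ c hp
      | mem p hp =>
        obtain ⟨l, rfl⟩ := hp
        first
          | exact lie_e_mon hx i l
          | exact Submodule.subset_span ⟨i :: l, rfl⟩
  let I : LieIdeal K L :=
    { M with lie_mem := fun {a m} hm => (hstab ▸ LieSubalgebra.mem_top a : a ∈ stab M) m hm }
  rcases LieAlgebra.IsSimple.eq_bot_or_eq_top I with h | h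
  · exfalso
    have : x ∈ I := Submodule.subset_span ⟨[], rfl⟩
    rw [h, LieSubmodule.mem_bot] at this
    exact hx.ne_zero this
  · exact congrArg LieSubmodule.toSubmodule h

lemma mem_span_wt {χ : Module.Dual K H} {y : L} (hy : y ∈ rootSpace H χ) :
    y ∈ Submodule.span K (mon b x '' {l | wt b ρ l = χ}) := by
  have htop : y ∈ Submodule.span K (mon b x '' {l | wt b ρ l = χ}) ⊔
      Submodule.span K (mon b x '' {l | wt b ρ l ≠ χ}) := by
    rw [← Submodule.span_union, ← Set.image_union]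
    have : {l | wt b ρ l = χ} ∪ {l | wt b ρ l ≠ χ} = Set.univ := by ext; simp [em]
    rw [this, Set.image_univ, span_mon hx]; trivial
  obtain ⟨a, ha, c, hc, rfl⟩ := Submodule.mem_sup.mp htop
  have ha' : a ∈ (rootSpace H χ : Submodule K L) := by
    refine (Submodule.span_le.mpr ?_) ha
    rintro _ ⟨l, rfl, rfl⟩
    exact mon_mem hx l
  have hc' : c ∈ ⨆ χ' ∈ {f : H → K | f ≠ χ}, (LieModule.genWeightSpace L χ' : LieSubmodule K H L).toSubmodule := by
    refine (Submodule.span_le.mpr ?_) hc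
    rintro _ ⟨l, hl, rfl⟩
    refine Submodule.mem_iSup_of_mem (wt b ρ l : H → K) (Submodule.mem_iSup_of_mem ?_ (mon_mem hx l))
    exact fun e => hl (DFunLike.coe_injective e)
  have hd := ((LieModule.iSupIndep_genWeightSpace K H L) (χ : H → K))
  rw [← LieSubmodule.disjoint_toSubmodule, Submodule.disjoint_def] at hd
  have hc0 : c = 0 := by
    refine hd c ?_ ?_
    · have : c = (a + c) - a := by abel
      rw [this]; exact sub_mem hy ha'
    · simpa [LieSubmodule.iSup_toSubmodule] using hc'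
  rw [hc0, add_zero]; exact ha

lemma eigen {χ : Module.Dual K H} {y : L} (hy : y ∈ rootSpace H χ) (h : H) : ⁅(h : L), y⁆ = χ h • y := by
  have hm := mem_span_wt hx hy
  clear hy
  induction hm using Submodule.span_induction with
  | zero => simp
  | add p q _ _ hp hq => rw [lie_add, hp, hq, smul_add]
  | smul c p _ hp => rw [lie_smul, hp, smul_comm]
  | mem p hp =>
    obtain ⟨l, rfl, rfl⟩ := hp
    exact lie_h_mon hx h l

lemma eq_of_weight {χ χ' : Module.Dual K H} {y : L} (hy0 : y ≠ 0) (hy : y ∈ rootSpace H χ)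
    (hy' : y ∈ rootSpace H χ') : χ = χ' := by
  ext h
  have h2 := (eigen hx hy h).symm.trans (eigen hx hy' h)
  exact smul_left_injective K hy0 h2

lemma eigen_mem {χ : Module.Dual K H} {y : L} (h : ∀ h : H, ⁅(h : L), y⁆ = χ h • y) : y ∈ rootSpace H χ := by
  rw [LieModule.mem_genWeightSpace]
  intro a
  refine ⟨1, ?_⟩
  simp only [pow_one, LinearMap.sub_apply, LinearMap.smul_apply, Module.End.one_apply,
    LieModule.toEnd_apply_apply]
  exact sub_eq_zero.mpr (h a)

lemma lie_e_mem (i : ι) {χ : Module.Dual K H} {y : L} (hy : y ∈ rootSpace H χ) :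
    ⁅b.e i, y⁆ ∈ rootSpace H (χ + b.baseSupp i : Module.Dual K H) :=
  eigen_mem hx fun h => by
    rw [leibniz_lie, lie_h_e' b, smul_lie, eigen hx hy, lie_smul, LinearMap.add_apply, add_smul, add_comm]

lemma exists_list {χ : Module.Dual K H} {y : L} (hy0 : y ≠ 0) (hy : y ∈ rootSpace H χ) :
    ∃ l, wt b ρ l = χ := by
  by_contra h
  push Not at h
  have := mem_span_wt hx hy
  rw [show {l | wt b ρ l = χ} = ∅ from Set.eq_empty_of_forall_notMem h, Set.image_empty,
    Submodule.span_empty, Submodule.mem_bot] at this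
  exact hy0 this

lemma mem_line {l : List ι} {χ : Module.Dual K H} (hχ : χ = wt b ρ l) (hlen : l.length ≤ 1)
    {y : L} (hy : y ∈ rootSpace H χ) : y ∈ Submodule.span K {mon b x l} := by
  refine (Submodule.span_le.mpr ?_) (mem_span_wt hx hy)
  rintro _ ⟨l', hl', rfl⟩
  have hp := wt_perm (hl'.trans hχ)
  have : l' = l := by
    rcases l with _ | ⟨a, _ | ⟨c, r⟩⟩
    · exact hp.eq_nil
    · exact List.perm_singleton.mp hp
    · simp at hlen
  rw [this]; exact Submodule.subset_span rfl

omit hx in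
lemma primitive_zero {v : L} (i : ι) (he : ⁅b.e i, v⁆ = 0) (hh : ⁅b.h i, v⁆ = 0) : ⁅b.f i, v⁆ = 0 := by
  by_cases hv : v = 0
  · rw [hv, lie_zero]
  have P : IsSl2Triple.HasPrimitiveVectorWith (b.sl2 i) v (0 : K) := ⟨hv, by rw [hh, zero_smul], he⟩
  have := P.pow_toEnd_f_eq_zero_of_eq_nat (n := 0) Nat.cast_zero.symm
  simpa using this

lemma killed {χ : Module.Dual K H} {y : L} (hy0 : y ≠ 0) (hy : y ∈ rootSpace H χ)
    (he : ∀ i, ⁅b.e i, y⁆ = 0) : χ = ρ := by
  have hy' : Top b χ y := ⟨hy0, eigen hx hy, he⟩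
  obtain ⟨l, hl⟩ := exists_list hx hy0 hy
  obtain ⟨l', hl'⟩ := exists_list hy' hx.ne_zero (eigen_mem hx hx.lie_h)
  have h2 : wt b ρ (l ++ l') = wt b ρ [] := by
    rw [wt_nil]
    refine Eq.trans ?_ hl'
    simp only [wt] at hl ⊢
    rw [← hl]
    simp only [List.map_append, List.sum_append]
    abel
  have hnil := (wt_perm h2).eq_nil
  rw [(List.append_eq_nil_iff.mp hnil).1, wt_nil] at hl
  exact hl.symm

variable {j : ι} (hN : ∀ i, ρ (b.h' i) ≠ 0 ↔ i = j) (hj : ρ (b.h' j) = 1)

include hN in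
lemma f_top_zero {i : ι} (hi : i ≠ j) : ⁅b.f i, x⁆ = 0 := by
  refine primitive_zero i (hx.lie_e i) ?_
  rw [show b.h i = ((b.h' i : H) : L) from rfl, hx.lie_h]
  rw [show ρ (b.h' i) = 0 by by_contra h; exact hi ((hN i).mp h), zero_smul]

include hj in
lemma e_mon_one : ⁅b.e j, mon b x [j]⁆ = x := by
  show ⁅b.e j, ⁅b.f j, x⁆⁆ = x
  rw [leibniz_lie, (b.sl2 j).lie_e_f, hx.lie_e, lie_zero, add_zero,
    show b.h j = ((b.h' j : H) : L) from rfl, hx.lie_h, hj, one_smul]

lemma e_mon_one_ne {i : ι} (hi : i ≠ j) : ⁅b.e i, mon b x [j]⁆ = 0 := by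
  show ⁅b.e i, ⁅b.f j, x⁆⁆ = 0
  rw [leibniz_lie, b.lie_e_f_ne i j hi, zero_lie, hx.lie_e, lie_zero, add_zero]

lemma e_mon_two {i : ι} (hi : i ≠ j) : ⁅b.e i, mon b x [i, j]⁆ = -(b.A j i : K) • mon b x [j] + ρ (b.h' i) • mon b x [j] := by
  show ⁅b.e i, ⁅b.f i, mon b x [j]⁆⁆ = _
  rw [leibniz_lie, (b.sl2 i).lie_e_f, e_mon_one_ne hx hi, lie_zero, add_zero,
    show b.h i = ((b.h' i : H) : L) from rfl, lie_h_mon hx, wt_cons, wt_nil, LinearMap.sub_apply,
    Basis.baseSupp_apply_h', sub_smul, neg_smul]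
  abel

include hN in
lemma e_mon_two' {i : ι} (hi : i ≠ j) : ⁅b.e i, mon b x [i, j]⁆ = -(b.A j i : K) • mon b x [j] := by
  rw [e_mon_two hx hi, show ρ (b.h' i) = 0 by by_contra h; exact hi ((hN i).mp h), zero_smul, add_zero]

include hN in
lemma mon_two_swap {i : ι} (hi : i ≠ j) : mon b x [j, i] = 0 := by
  show ⁅b.f j, ⁅b.f i, x⁆⁆ = 0
  rw [f_top_zero hx hN hi, lie_zero]

include hN in
lemma mon_two_zero {i : ι} (hi : i ≠ j) (hA : b.A i j = 0) : mon b x [i, j] = 0 := by
  have h1 : ⁅b.f j, b.f i⁆ = 0 := by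
    refine primitive_zero j (b.lie_e_f_ne j i (Ne.symm hi)) ?_
    rw [b.lie_h_f i j, hA, neg_zero, zero_smul]
  show ⁅b.f i, ⁅b.f j, x⁆⁆ = 0
  rw [leibniz_lie, f_top_zero hx hN hi, lie_zero, add_zero, ← lie_skew (b.f i) (b.f j), h1, neg_zero, zero_lie]

include hj in
lemma mon_jj : mon b x [j, j] = 0 := by
  have P : IsSl2Triple.HasPrimitiveVectorWith (b.sl2 j) x (1 : K) :=
    ⟨hx.ne_zero, by rw [show b.h j = ((b.h' j : H) : L) from rfl, hx.lie_h, hj], hx.lie_e j⟩
  have := P.pow_toEnd_f_eq_zero_of_eq_nat (n := 1) Nat.cast_one.symm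
  simpa [pow_succ, mon] using this

include hN in
lemma A_ne_zero {i : ι} (hi : i ≠ j) (hz : mon b x [i, j] ≠ 0) : b.A i j ≠ 0 ∧ b.A j i ≠ 0 := by
  refine ⟨fun h => hz (mon_two_zero hx hN hi h), fun h => hz ?_⟩
  show ⁅b.f i, mon b x [j]⁆ = 0
  refine primitive_zero i (e_mon_one_ne hx hi) ?_
  rw [show b.h i = ((b.h' i : H) : L) from rfl, lie_h_mon hx, wt_cons, wt_nil, LinearMap.sub_apply,
    Basis.baseSupp_apply_h', h, show ρ (b.h' i) = 0 by by_contra h'; exact hi ((hN i).mp h')]
  simp

/-- The span of the top two levels. -/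
abbrev V2 (b : LieAlgebra.Basis ι H) (x : L) (j : ι) : Submodule K L := Submodule.span K {x, mon b x [j]}

include hN hj in
lemma level_two {χ : Module.Dual K H} {y : L} (hy : y ∈ rootSpace H χ) (he : ∀ i, ⁅b.e i, y⁆ ∈ V2 b x j) :
    y ∈ V2 b x j ∨ ∃ i, i ≠ j ∧ y ∈ Submodule.span K {mon b x [i, j]} := by
  by_cases hy0 : y = 0
  · exact Or.inl (by rw [hy0]; exact zero_mem _)
  by_cases hall : ∀ i, ⁅b.e i, y⁆ = 0
  · refine Or.inl ?_
    have := mem_line hx (l := []) ((killed hx hy0 hy hall).trans wt_nil.symm) (by simp) hy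
    exact Submodule.span_mono (by simp [mon]) this
  push Not at hall
  obtain ⟨i, hi⟩ := hall
  have hm := lie_e_mem hx i hy
  obtain ⟨c, d, hcd⟩ := Submodule.mem_span_pair.mp (he i)
  obtain ⟨l, hl, hlw⟩ : ∃ l : List ι, (l = [] ∨ l = [j]) ∧ wt b ρ l = χ + b.baseSupp i := by
    by_contra h
    push Not at h
    apply hi
    have hmem := mem_span_wt hx hm
    have hx' : x ∈ rootSpace H (wt b ρ [] : Module.Dual K H) := mon_mem hx []
    have hy' := mon_mem hx [j]
    have hd := ((LieModule.iSupIndep_genWeightSpace K H L) ((χ + b.baseSupp i : Module.Dual K H) : H → K))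
    rw [← LieSubmodule.disjoint_toSubmodule, Submodule.disjoint_def] at hd
    refine hd _ hm ?_
    rw [← hcd, LieSubmodule.iSup_toSubmodule]
    refine add_mem (Submodule.smul_mem _ _ ?_) (Submodule.smul_mem _ _ ?_)
    · refine Submodule.mem_iSup_of_mem (wt b ρ [] : H → K) ?_
      rw [iSup_pos (show ((wt b ρ [] : Module.Dual K H) : H → K) ≠ _ from fun e => h [] (Or.inl rfl) (DFunLike.coe_injective e))]
      exact hx'
    · refine Submodule.mem_iSup_of_mem (wt b ρ [j] : H → K) ?_
      rw [iSup_pos (show ((wt b ρ [j] : Module.Dual K H) : H → K) ≠ _ from fun e => h [j] (Or.inr rfl) (DFunLike.coe_injective e))]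
      exact hy'
  have hχ : χ = wt b ρ (i :: l) := by rw [wt_cons, hlw]; abel
  rcases hl with rfl | rfl
  · have hm1 := mem_line hx hχ (by simp) hy
    rcases eq_or_ne i j with h | h
    · subst h; exact Or.inl (Submodule.span_mono (by simp) hm1)
    · rw [show mon b x [i] = 0 from f_top_zero hx hN h, Submodule.mem_span_singleton] at hm1
      obtain ⟨c, hc⟩ := hm1
      exact absurd (by rw [← hc, smul_zero]) hy0
  · have hm2 := mem_span_wt hx hy
    rcases eq_or_ne i j with h | h
    · subst h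
      exfalso
      apply hy0
      have : Submodule.span K (mon b x '' {l | wt b ρ l = χ}) = ⊥ := by
        rw [Submodule.span_eq_bot]
        rintro _ ⟨l, hl, rfl⟩
        have hp := wt_perm (hl.trans hχ)
        have : l = [i, i] := List.perm_replicate (n := 2) (a := i) |>.mp hp
        rw [this]; exact mon_jj hx hj
      rwa [this, Submodule.mem_bot] at hm2
    · refine Or.inr ⟨i, h, (Submodule.span_le.mpr ?_) hm2⟩
      rintro _ ⟨l, hl, rfl⟩
      have hp := wt_perm (hl.trans hχ)
      rcases l with _ | ⟨a, _ | ⟨c, _ | ⟨d, r⟩⟩⟩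
      · simpa using hp.length_eq
      · simpa using hp.length_eq
      · have ha : a = i ∨ a = j := by simpa using hp.subset (List.mem_cons_self : a ∈ [a, c])
        have hc' : c = i ∨ c = j := by simpa using hp.subset (show c ∈ [a, c] by simp)
        have hi' : i = a ∨ i = c := by simpa using hp.symm.subset (show i ∈ [i, j] by simp)
        have hj' : j = a ∨ j = c := by simpa using hp.symm.subset (show j ∈ [i, j] by simp)
        rcases ha with rfl | rfl
        · rcases hc' with rfl | rfl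
          · exact absurd (by rcases hj' with h' | h' <;> exact h'.symm) h
          · exact Submodule.subset_span rfl
        · rcases hc' with rfl | rfl
          · rw [mon_two_swap hx hN h]; exact zero_mem _
          · exact absurd (by rcases hi' with h' | h' <;> exact h') h
      · simpa using hp.length_eq

/-- A stable subspace not inside a stable one contains an element mapped into the latter by all raising operators. -/
lemma exists_next (W V : Submodule K L) (hWh : ∀ h : H, ∀ w ∈ W, ⁅(h : L), w⁆ ∈ W)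
    (hWe : ∀ i, ∀ w ∈ W, ⁅b.e i, w⁆ ∈ W) (hWV : ¬ W ≤ V) :
    ∃ (χ : Module.Dual K H) (y : L), y ∈ rootSpace H χ ∧ y ∈ W ∧ y ∉ V ∧ ∀ i, ⁅b.e i, y⁆ ∈ V := by
  classical
  let N : LieSubmodule K H L := { W with lie_mem := fun {h m} hm => hWh h m hm }
  obtain ⟨χ, y, hy, hyW, hyV⟩ : ∃ (χ : Module.Dual K H) (y : L), y ∈ rootSpace H χ ∧ y ∈ W ∧ y ∉ V := by
    by_contra hc
    push Not at hc
    apply hWV
    have htop := LieModule.iSup_genWeightSpace_eq_top K H N
    intro w hw
    have : (⟨w, hw⟩ : N) ∈ (⨆ χ : H → K, genWeightSpace N χ) := htop ▸ LieSubmodule.mem_top _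
    refine LieSubmodule.iSup_induction (motive := fun (n : N) => (n : L) ∈ V) _ this (fun χ n hn => ?_) (zero_mem V)
      (fun a c ha hc' => add_mem ha hc')
    have hn' : (n : L) ∈ genWeightSpace L χ := by
      have := LieModule.map_genWeightSpace_le (χ := χ) (f := N.incl) ⟨n, hn, rfl⟩
      exact this
    by_cases hn0 : (n : L) = 0
    · rw [hn0]; exact zero_mem V
    have hne : rootSpace H χ ≠ ⊥ := fun h0 => hn0 (by
      have := hn'; rw [show genWeightSpace L χ = ⊥ from h0] at this; exact (LieSubmodule.mem_bot _).mp this)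
    exact hc ((⟨χ, hne⟩ : LieModule.Weight K H L).toLinear) n hn' n.2
  obtain ⟨l₀, hl₀⟩ := exists_list hx (fun h => hyV (by rw [h]; exact zero_mem V)) hy
  induction hn : l₀.length using Nat.strongRecOn generalizing l₀ χ y with
  | _ n ih =>
    by_cases hall : ∀ i, ⁅b.e i, y⁆ ∈ V
    · exact ⟨χ, y, hy, hyW, hyV, hall⟩
    push Not at hall
    obtain ⟨i, hi⟩ := hall
    obtain ⟨l', hl'⟩ := exists_list hx (fun h => hi (by rw [h]; exact zero_mem V)) (lie_e_mem hx i hy)
    have hp : (i :: l').Perm l₀ := wt_perm (b := b) (ρ := ρ) (by rw [wt_cons, hl', hl₀]; abel)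
    exact ih l'.length (by rw [← hn, ← hp.length_eq]; simp) _ _ (lie_e_mem hx i hy) (hWe i y hyW) hi l' hl' rfl

include hN hj in
lemma stable_cases (W : Submodule K L) (hW2 : 2 ≤ Module.finrank K W)
    (hWh : ∀ h : H, ∀ w ∈ W, ⁅(h : L), w⁆ ∈ W) (hWe : ∀ i, ∀ w ∈ W, ⁅b.e i, w⁆ ∈ W) :
    V2 b x j ≤ W ∧ (W = V2 b x j ∨ ∃ i, i ≠ j ∧ mon b x [i, j] ≠ 0 ∧ mon b x [i, j] ∈ W) := by
  have hxW : x ∈ W := by
    have hne : ¬ W ≤ ⊥ := fun h => by rw [le_bot_iff.mp h, finrank_bot] at hW2; omega
    obtain ⟨χ, y, hy, hyW, hy0, he⟩ := exists_next hx W ⊥ hWh hWe hne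
    simp only [Submodule.mem_bot] at hy0 he
    have hm := mem_line hx (l := []) ((killed hx hy0 hy he).trans wt_nil.symm) (by simp) hy
    obtain ⟨c, rfl⟩ := Submodule.mem_span_singleton.mp hm
    exact (Submodule.smul_mem_iff W (fun h => hy0 (by rw [h, zero_smul]))).mp hyW
  have hyW : mon b x [j] ∈ W := by
    have hne : ¬ W ≤ Submodule.span K {x} := fun h => by
      have := (Submodule.finrank_mono h).trans_eq (finrank_span_singleton hx.ne_zero)
      omega
    obtain ⟨χ, y, hy, hyW, hy0, he⟩ := exists_next hx W _ hWh hWe hne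
    rcases level_two hx hN hj hy (fun i => Submodule.span_mono (by simp) (he i)) with h | ⟨i, hi, h⟩
    · obtain ⟨c, d, rfl⟩ := Submodule.mem_span_pair.mp h
      have hd : d ≠ 0 := fun hd => hy0 (by rw [hd, zero_smul, add_zero]; exact Submodule.smul_mem _ _ (Submodule.mem_span_singleton_self x))
      exact (Submodule.smul_mem_iff W hd).mp (by simpa using sub_mem hyW (W.smul_mem c hxW))
    · obtain ⟨c, rfl⟩ := Submodule.mem_span_singleton.mp h
      have h2 := he i
      rw [lie_smul, e_mon_two' hx hN hi, smul_smul, Submodule.mem_span_singleton] at h2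
      obtain ⟨a, ha⟩ := h2
      by_cases hz : mon b x [i, j] = 0
      · exact absurd (by rw [hz, smul_zero]; exact zero_mem _) hy0
      have hcm : c * -(b.A j i : K) ≠ 0 :=
        mul_ne_zero (fun h => hy0 (by rw [h, zero_smul]; exact zero_mem _))
          (neg_ne_zero.mpr (Int.cast_ne_zero.mpr (A_ne_zero hx hN hi hz).2))
      exfalso
      have h3 := congrArg (fun v => ⁅b.e j, v⁆) ha
      simp only [lie_smul, hx.lie_e, smul_zero, e_mon_one hx hj] at h3
      exact hcm ((smul_eq_zero.mp h3.symm).resolve_right hx.ne_zero)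
  have hle : V2 b x j ≤ W := Submodule.span_le.mpr (by
    intro v hv; rcases hv with rfl | rfl <;> assumption)
  refine ⟨hle, ?_⟩
  by_cases hWV : W ≤ V2 b x j
  · exact Or.inl (le_antisymm hWV hle)
  obtain ⟨χ, y, hy, hyW', hy0, he⟩ := exists_next hx W _ hWh hWe hWV
  rcases level_two hx hN hj hy he with h | ⟨i, hi, h⟩
  · exact absurd h hy0
  · obtain ⟨c, rfl⟩ := Submodule.mem_span_singleton.mp h
    refine Or.inr ⟨i, hi, fun hz => hy0 (by rw [hz, smul_zero]; exact zero_mem _), ?_⟩
    exact (Submodule.smul_mem_iff W (fun h' => hy0 (by rw [h', zero_smul]; exact zero_mem _))).mp hyW'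

include hN hj in
lemma finrank_V2 : Module.finrank K (V2 b x j) = 2 := by
  have hli : LinearIndependent K ![x, mon b x [j]] := by
    rw [LinearIndependent.pair_iff]
    intro a c h
    have h2 := congrArg (fun v => ⁅b.e j, v⁆) h
    simp only [lie_add, lie_smul, hx.lie_e, smul_zero, zero_add, e_mon_one hx hj, lie_zero] at h2
    have hc := (smul_eq_zero.mp h2).resolve_right hx.ne_zero
    rw [hc, zero_smul, add_zero] at h
    exact ⟨(smul_eq_zero.mp h).resolve_right hx.ne_zero, hc⟩
  have := finrank_span_eq_card hli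
  rw [Fintype.card_fin] at this
  rwa [Matrix.range_cons, Matrix.range_cons, Matrix.range_empty, Set.union_empty, Set.singleton_union] at this

include hN hj in
lemma independent3 {i : ι} (hi : i ≠ j) (hz : mon b x [i, j] ≠ 0) :
    LinearIndependent K ![x, mon b x [j], mon b x [i, j]] := by
  rw [Fintype.linearIndependent_iff]
  intro g hg
  simp [Fin.sum_univ_three] at hg
  have h1 := congrArg (fun v => ⁅b.e i, v⁆) hg
  simp only [lie_add, lie_smul, hx.lie_e, e_mon_one_ne hx hi, e_mon_two' hx hN hi, smul_zero, zero_add,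
    lie_zero, smul_smul] at h1
  have hy0 : mon b x [j] ≠ 0 := fun h => hx.ne_zero (by rw [← e_mon_one hx hj, h, lie_zero])
  have hg2 : g 2 = 0 := by
    refine (mul_eq_zero.mp ((smul_eq_zero.mp h1).resolve_right hy0)).resolve_right ?_
    exact neg_ne_zero.mpr (Int.cast_ne_zero.mpr (A_ne_zero hx hN hi hz).2)
  rw [hg2, zero_smul, add_zero] at hg
  have h2 := congrArg (fun v => ⁅b.e j, v⁆) hg
  simp only [lie_add, lie_smul, hx.lie_e, e_mon_one hx hj, smul_zero, zero_add, lie_zero] at h2
  have hg1 := (smul_eq_zero.mp h2).resolve_right hx.ne_zero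
  rw [hg1, zero_smul, add_zero] at hg
  have hg0 := (smul_eq_zero.mp hg).resolve_right hx.ne_zero
  intro k; fin_cases k <;> assumption

lemma rootSpace_top : (rootSpace H ρ : Submodule K L) = Submodule.span K {x} := by
  refine le_antisymm (fun y hy => mem_line hx (l := []) wt_nil.symm (by simp) hy) ?_
  rw [Submodule.span_singleton_le_iff_mem]
  exact eigen_mem hx hx.lie_h

lemma rootSpace_one :
    (rootSpace H (ρ - b.baseSupp j) : Submodule K L) = Submodule.span K {mon b x [j]} := by
  have e : ρ - b.baseSupp j = wt b ρ [j] := by rw [wt_cons, wt_nil]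
  refine le_antisymm (fun y hy => mem_line hx (l := [j]) e (by simp) (by exact hy)) ?_
  rw [Submodule.span_singleton_le_iff_mem]
  exact eigen_mem (χ := ρ - b.baseSupp j) hx (fun h => by rw [lie_h_mon hx, e])

include hN in
lemma rootSpace_two {i : ι} (hi : i ≠ j) :
    (rootSpace H (ρ - b.baseSupp j - b.baseSupp i) : Submodule K L) = Submodule.span K {mon b x [i, j]} := by
  have e : ρ - b.baseSupp j - b.baseSupp i = wt b ρ [i, j] := by rw [wt_cons, wt_cons, wt_nil]
  refine le_antisymm (fun y hy => ?_) ?_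
  · refine (Submodule.span_le.mpr ?_) (mem_span_wt hx (χ := ρ - b.baseSupp j - b.baseSupp i) hy)
    rintro _ ⟨l, hl, rfl⟩
    have hp := wt_perm (hl.trans e)
    rcases l with _ | ⟨a, _ | ⟨c, _ | ⟨d, r⟩⟩⟩
    · simpa using hp.length_eq
    · simpa using hp.length_eq
    · have ha : a = i ∨ a = j := by simpa using hp.subset (List.mem_cons_self : a ∈ [a, c])
      have hc' : c = i ∨ c = j := by simpa using hp.subset (show c ∈ [a, c] by simp)
      have hi' : i = a ∨ i = c := by simpa using hp.symm.subset (show i ∈ [i, j] by simp)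
      have hj' : j = a ∨ j = c := by simpa using hp.symm.subset (show j ∈ [i, j] by simp)
      rcases ha with rfl | rfl
      · rcases hc' with rfl | rfl
        · exact absurd (by rcases hj' with h' | h' <;> exact h'.symm) hi
        · exact Submodule.subset_span rfl
      · rcases hc' with rfl | rfl
        · rw [mon_two_swap hx hN hi]; exact zero_mem _
        · exact absurd (by rcases hi' with h' | h' <;> exact h') hi
    · simpa using hp.length_eq
  · rw [Submodule.span_singleton_le_iff_mem]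
    exact eigen_mem (χ := ρ - b.baseSupp j - b.baseSupp i) hx (fun h => by rw [lie_h_mon hx, e])

omit hx in
lemma borel_stable_iff (W : Submodule K L) :
    (∀ a ∈ H.toSubmodule ⊔ (b.borelUpper : Submodule K L), ∀ w ∈ W, ⁅a, w⁆ ∈ W) ↔
      (∀ h : H, ∀ w ∈ W, ⁅(h : L), w⁆ ∈ W) ∧ ∀ i, ∀ w ∈ W, ⁅b.e i, w⁆ ∈ W := by
  constructor
  · intro h
    exact ⟨fun a => h a (Submodule.mem_sup_left a.2),
      fun i => h _ (Submodule.mem_sup_right (LieSubalgebra.subset_lieSpan ⟨i, rfl⟩))⟩
  · rintro ⟨h1, h2⟩ a ha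
    have hH : H.toSubmodule ≤ (stab W).toSubmodule := fun a ha => h1 ⟨a, ha⟩
    have hB : (b.borelUpper : Submodule K L) ≤ (stab W).toSubmodule := by
      intro a ha
      have h' : LieSubalgebra.lieSpan K L (Set.range b.e) ≤ stab W :=
        LieSubalgebra.lieSpan_le.mpr (by rintro _ ⟨i, rfl⟩; exact h2 i)
      exact h' ha
    exact sup_le hH hB ha

lemma V2_eq :
    (rootSpace H ρ : Submodule K L) ⊔ (rootSpace H (ρ - b.baseSupp j) : Submodule K L) = V2 b x j := by
  rw [rootSpace_top hx, rootSpace_one hx, ← Submodule.span_union, Set.singleton_union]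

include hN hj in
lemma V2_stable : (∀ h : H, ∀ w ∈ V2 b x j, ⁅(h : L), w⁆ ∈ V2 b x j) ∧
    ∀ i, ∀ w ∈ V2 b x j, ⁅b.e i, w⁆ ∈ V2 b x j := by
  constructor
  · intro h w hw
    obtain ⟨c, d, rfl⟩ := Submodule.mem_span_pair.mp hw
    refine Submodule.mem_span_pair.mpr ⟨c * ρ h, d * wt b ρ [j] h, ?_⟩
    rw [lie_add, lie_smul, lie_smul, hx.lie_h, lie_h_mon hx, mul_smul, mul_smul]
  · intro i w hw
    obtain ⟨c, d, rfl⟩ := Submodule.mem_span_pair.mp hw
    rw [lie_add, lie_smul, lie_smul, hx.lie_e, smul_zero, zero_add]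
    rcases eq_or_ne i j with rfl | h
    · rw [e_mon_one hx hj]; exact Submodule.smul_mem _ _ (Submodule.subset_span (by simp))
    · rw [e_mon_one_ne hx h, smul_zero]; exact zero_mem _

include hN hj in
lemma eq_span3 (W : Submodule K L) (hW : Module.finrank K W = 3)
    (hst : ∀ a ∈ H.toSubmodule ⊔ (b.borelUpper : Submodule K L), ∀ w ∈ W, ⁅a, w⁆ ∈ W) :
    ∃ i, i ≠ j ∧ mon b x [i, j] ≠ 0 ∧ W = Submodule.span K (Set.range ![x, mon b x [j], mon b x [i, j]]) := by
  obtain ⟨h1, h2⟩ := (borel_stable_iff W).mp hst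
  obtain ⟨hle, h | ⟨i, hi, hz, hzW⟩⟩ := stable_cases hx hN hj W (by omega) h1 h2
  · rw [h, finrank_V2 hx hN hj] at hW; omega
  refine ⟨i, hi, hz, (Submodule.eq_of_le_of_finrank_eq ?_ ?_).symm⟩
  · rw [Submodule.span_le]
    rintro _ ⟨k, rfl⟩
    fin_cases k
    · exact hle (Submodule.subset_span (by simp))
    · exact hle (Submodule.subset_span (by simp))
    · exact hzW
  · rw [finrank_span_eq_card (independent3 hx hN hj hi hz), Fintype.card_fin, hW]

end Groth.Agent.LieTop
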